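import Groth.Agent.DSMapLib.Main
import Groth.Agent.DSMapLib.Pts
import Groth.Agent.SplitHom.Alg
import Groth.Prelude.Def_AlgGrp

/-!
Homomorphisms of diagonalisable groups over a field are given by maps of characters.
-/

set_option autoImplicit false
set_option linter.style.haveILetI false

universe u

open CategoryTheory CategoryTheory.Limits MonoidalCategory CartesianMonoidalCategory MonObj AlgebraicGeometry
open MonoidAlgebra

noncomputable section

namespace Groth.Agent.DSHomField

open FixedSmooth DSMapLib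

variable {M M' : Type} [AddCommGroup M] [AddCommGroup M']

theorem dsPt_natural {S : Scheme.{u}} {B B' : CommRingCat.{u}} (q : Spec B ⟶ S) (g : B ⟶ B')
    (χ : Multiplicative M →* B) :
    (Over.homMk (Spec.map g) rfl : Over.mk (Spec.map g ≫ q) ⟶ Over.mk q) ≫ dsPt M q χ =
      dsPt M (Spec.map g ≫ q) (g.hom.toMonoidHom.comp χ) :=
  @dsPtAux_natural (ULift.{u} ℤ) _ M _ S _ B B' (zAlg B) (zAlg B') q g
    (specULiftZIsTerminal.hom_ext _ _) (specULiftZIsTerminal.hom_ext _ _) (fun r => map_intCast g.hom r.down) χ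

variable (k : Type u) [Field k]

/-- A diagonalisable group in terms of its points. -/
structure Pts (G : Over (Spec (CommRingCat.of k))) [GrpObj G] (M : Type) [AddCommGroup M] where
  /-- the points -/
  pt : ∀ (B : CommRingCat.{u}) (q : Spec B ⟶ Spec (CommRingCat.of k)), (Multiplicative M →* B) ≃* (Over.mk q ⟶ G)
  nat : ∀ (B B' : CommRingCat.{u}) (q : Spec B ⟶ Spec (CommRingCat.of k)) (g : B ⟶ B') (χ : Multiplicative M →* B),
    (Over.homMk (Spec.map g) rfl : Over.mk (Spec.map g ≫ q) ⟶ Over.mk q) ≫ pt B q χ =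
      pt B' (Spec.map g ≫ q) (g.hom.toMonoidHom.comp χ)

/-- The points of `D(M)`. -/
def dsPts (M : Type) [AddCommGroup M] : Pts k (Red.DS (Spec (CommRingCat.of k)) M) M where
  pt B q := dsPt (B := B) M q
  nat B B' q g χ := dsPt_natural q g χ

/-- The structure map of the group algebra. -/
abbrev gk (M : Type) [AddCommGroup M] : CommRingCat.of k ⟶ CommRingCat.of (MonoidAlgebra k (Multiplicative M)) :=
  CommRingCat.ofHom MonoidAlgebra.singleOneRingHom

/-- The universal character. -/
abbrev univChar (M : Type) [AddCommGroup M] : Multiplicative M →* MonoidAlgebra k (Multiplicative M) :=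
  MonoidAlgebra.of k (Multiplicative M)

theorem univChar_injective : Function.Injective (univChar k M) := fun a b h => by
  have := congrArg (fun z : MonoidAlgebra k (Multiplicative M) => MonoidAlgebra.coeff z a) h
  classical
  simpa [Finsupp.single_apply, eq_comm] using this

variable {k} {G H K : Over (Spec (CommRingCat.of k))} [GrpObj G] [GrpObj H] [GrpObj K]

/-- A homomorphism of diagonalisable groups over a field comes from a map of characters. -/
theorem exists_char [AddGroup.FG M'] (σ : Pts k G M) (τ : Pts k H M') (u : G ⟶ H) [IsMonHom u] :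
    ∃ φ : M' →+ M, ∀ (B : CommRingCat.{u}) (q : Spec B ⟶ Spec (CommRingCat.of k)) (χ : Multiplicative M →* B),
      σ.pt B q χ ≫ u = τ.pt B q (χ.comp φ.toMultiplicative) := by
  let q₀ := Spec.map (gk k M)
  let Ψ : Multiplicative M' →* MonoidAlgebra k (Multiplicative M) := (τ.pt _ q₀).symm (σ.pt _ q₀ (univChar k M) ≫ u)
  have hu : ∀ {D : CommRingCat.{u}} (g : CommRingCat.of k ⟶ D) (χ : Multiplicative M →* D),
      σ.pt _ (Spec.map g) χ ≫ u = τ.pt _ (Spec.map g) ((L g.hom χ).toMonoidHom.comp Ψ) := fun {D} g χ => by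
    have e : Spec.map g = Spec.map (CommRingCat.ofHom (L g.hom χ)) ≫ q₀ := by
      rw [← Spec.map_comp]
      congr 1
      exact CommRingCat.hom_ext (L_comp_single g.hom χ).symm
    have hχ : χ = (L g.hom χ).toMonoidHom.comp (univChar k M) := MonoidHom.ext fun m => by simp
    let a : Over.mk (Spec.map (CommRingCat.ofHom (L g.hom χ)) ≫ q₀) ⟶ Over.mk q₀ :=
      Over.homMk (Spec.map (CommRingCat.ofHom (L g.hom χ))) rfl
    have key : σ.pt _ (Spec.map (CommRingCat.ofHom (L g.hom χ)) ≫ q₀) ((L g.hom χ).toMonoidHom.comp (univChar k M)) ≫ u =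
        τ.pt _ (Spec.map (CommRingCat.ofHom (L g.hom χ)) ≫ q₀) ((L g.hom χ).toMonoidHom.comp Ψ) := by
      refine (congrArg (· ≫ u) (σ.nat _ _ q₀ (CommRingCat.ofHom (L g.hom χ)) (univChar k M)).symm).trans ?_
      rw [Category.assoc]
      refine (congrArg (a ≫ ·) ((τ.pt _ q₀).apply_symm_apply _).symm).trans ?_
      exact τ.nat _ _ q₀ (CommRingCat.ofHom (L g.hom χ)) Ψ
    rw [← hχ] at key
    revert key
    generalize Spec.map (CommRingCat.ofHom (L g.hom χ)) ≫ q₀ = q' at e
    subst e
    exact id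
  have hGL : ∀ m, IsGL (Ψ m) := fun m => fun {B'} _ f χ χ' => by
    let g : CommRingCat.of k ⟶ CommRingCat.of B' := CommRingCat.ofHom f
    have hmul : τ.pt _ (Spec.map g) ((L g.hom (χ * χ')).toMonoidHom.comp Ψ) =
        τ.pt _ (Spec.map g) ((L g.hom χ).toMonoidHom.comp Ψ * (L g.hom χ').toMonoidHom.comp Ψ) := by
      rw [map_mul, ← hu, ← hu, ← hu, map_mul, MonObj.mul_comp]
    have hone : τ.pt _ (Spec.map g) ((L g.hom (1 : Multiplicative M →* B')).toMonoidHom.comp Ψ) =
        τ.pt _ (Spec.map g) 1 := by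
      rw [← hu, map_one, map_one, MonObj.one_comp]
    exact ⟨DFunLike.congr_fun ((τ.pt _ _).injective hmul) m, DFunLike.congr_fun ((τ.pt _ _).injective hone) m⟩
  obtain ⟨f, φ, hf, hφ⟩ := SplitHom.exists_monomial Ψ hGL ⟨⊥, Ideal.isPrime_bot⟩
  have hΨ : ∀ m, Ψ m = univChar k M (φ m) := fun m => by
    have h1 := hφ (RingHom.id k) (isUnit_iff_ne_zero.2 fun h => hf (by simpa using h)) m
    have h2 : MonoidAlgebra.mapRingHom (Multiplicative M) (RingHom.id k) (Ψ m) = Ψ m := by
      ext l; simp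
    rw [h2] at h1
    exact h1
  refine ⟨(MonoidHom.toAdditive φ : Additive (Multiplicative M') →+ Additive (Multiplicative M)), fun B q χ => ?_⟩
  obtain ⟨g, rfl⟩ := Spec.map_surjective q
  refine (hu g χ).trans (congrArg (τ.pt _ (Spec.map g)) (MonoidHom.ext fun m => ?_))
  show L g.hom χ (Ψ m) = χ (φ m)
  rw [hΨ]
  simp

/-- The character map of a quotient with free cokernel has a retraction. -/
theorem exists_retraction {MK MG MQ : Type} [AddCommGroup MK] [AddCommGroup MG] [AddCommGroup MQ]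
    [AddGroup.FG MG] [AddGroup.FG MQ] [AddGroup.FG MK] [IsAddTorsionFree MK]
    (κ : Pts k K MK) (σ : Pts k G MG) (τ : Pts k H MQ) {Z : Over (Spec (CommRingCat.of k))} [GrpObj Z] (ζ : Pts k Z ℤ)
    (hZ : ∀ f : ℤ →+ MQ, ∃ v : H ⟶ Z, ∀ (B : CommRingCat.{u}) (q : Spec B ⟶ Spec (CommRingCat.of k))
      (χ : Multiplicative MQ →* B), τ.pt B q χ ≫ v = ζ.pt B q (χ.comp f.toMultiplicative))
    (i : K ⟶ G) [IsMonHom i] (π : G ⟶ H) [IsMonHom π]
    [Flat π.left] [Surjective π.left] (hker : AlgGrp.IsKernel i π) (φ : MQ →+ MG)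
    (hφ : ∀ (B : CommRingCat.{u}) (q : Spec B ⟶ Spec (CommRingCat.of k)) (χ : Multiplicative MG →* B),
      σ.pt B q χ ≫ π = τ.pt B q (χ.comp φ.toMultiplicative)) :
    ∃ r : MG →+ MQ, ∀ m, r (φ m) = m := by
  obtain ⟨ψ, hψ⟩ := exists_char κ σ i
  -- the characters of the target inject
  have hinj : Function.Injective φ := by
    rw [injective_iff_map_eq_zero]
    intro m hm
    let ε : ℤ →+ MQ := zmultiplesHom MQ m
    obtain ⟨v, hv⟩ := hZ ε
    obtain ⟨v₀, hv₀⟩ := hZ 0
    have h1 : π ≫ v = π ≫ v₀ := by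
      refine FixedSmooth.hom_ext_affine _ _ fun B p w => ?_
      obtain ⟨χ, rfl⟩ := (σ.pt B p).surjective w
      rw [← Category.assoc, ← Category.assoc, hφ, hv, hv₀]
      congr 1
      refine MonoidHom.ext fun z => ?_
      show χ (Multiplicative.ofAdd (φ (ε (Multiplicative.toAdd z)))) = χ (Multiplicative.ofAdd (φ 0))
      simp [ε, hm]
    haveI := Flat.epi_of_flat_of_surjective π.left
    haveI : Epi π := Over.epi_of_epi_left π
    have h2 := congrArg (fun z => τ.pt _ (Spec.map (gk k MQ)) (univChar k MQ) ≫ z) ((cancel_epi π).1 h1)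
    simp only [hv, hv₀] at h2
    have h3 := DFunLike.congr_fun ((ζ.pt _ _).injective h2) (Multiplicative.ofAdd 1)
    have h4 : Multiplicative.ofAdd m = Multiplicative.ofAdd 0 := univChar_injective k (by simpa [ε] using h3)
    exact Multiplicative.ofAdd.injective h4
  -- the composite is trivial
  have hψφ : ∀ m, ψ (φ m) = 0 := fun m => by
    have h1 : i ≫ π = toUnit _ ≫ η := hker.w
    have h2 := congrArg (fun z => κ.pt _ (Spec.map (gk k MK)) (univChar k MK) ≫ z) h1
    simp only [← Category.assoc] at h2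
    rw [hψ, hφ, comp_toUnit, show toUnit _ ≫ η = (1 : Over.mk (Spec.map (gk k MK)) ⟶ H) from (Hom.one_def).symm,
      ← map_one (τ.pt _ (Spec.map (gk k MK)))] at h2
    have h3 := DFunLike.congr_fun ((τ.pt _ _).injective h2) (Multiplicative.ofAdd m)
    exact Multiplicative.ofAdd.injective (univChar_injective k (h3.trans (map_one _).symm))
  -- torsion-free cokernel
  let R := φ.range
  have htf : ∀ (n : ℕ) (l : MG), n ≠ 0 → n • l ∈ R → l ∈ R := by
    intro n l hn hl
    let C := MG ⧸ R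
    let χ₀ : Multiplicative MG →* MonoidAlgebra k (Multiplicative C) :=
      (univChar k C).comp (QuotientAddGroup.mk' R).toMultiplicative
    let c := σ.pt _ (Spec.map (gk k C)) χ₀
    have h1 : c ≫ π = toUnit _ ≫ η := by
      rw [hφ, show toUnit _ ≫ η = (1 : Over.mk (Spec.map (gk k C)) ⟶ H) from (Hom.one_def).symm,
        ← map_one (τ.pt _ (Spec.map (gk k C)))]
      congr 1
      refine MonoidHom.ext fun z => ?_
      show univChar k C (Multiplicative.ofAdd (QuotientAddGroup.mk' R (φ (Multiplicative.toAdd z)))) = 1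
      rw [show QuotientAddGroup.mk' R (φ (Multiplicative.toAdd z)) = 0 from
        (QuotientAddGroup.eq_zero_iff _).2 ⟨_, rfl⟩, ofAdd_zero, map_one]
    obtain ⟨χ', hχ'⟩ := (κ.pt _ (Spec.map (gk k C))).surjective (hker.lift c (toUnit _) h1)
    have h2 : c = σ.pt _ (Spec.map (gk k C)) (χ'.comp ψ.toMultiplicative) := by
      rw [← hψ, hχ', hker.lift_fst]
    have h3 := DFunLike.congr_fun ((σ.pt _ _).injective h2) (Multiplicative.ofAdd l)
    obtain ⟨m, hm⟩ := hl
    have h5 : ψ l = 0 := by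
      have : n • ψ l = n • (0 : MK) := by rw [smul_zero, ← map_nsmul, ← hm, hψφ]
      exact nsmul_right_injective hn this
    have h6 : univChar k C (Multiplicative.ofAdd (QuotientAddGroup.mk' R l)) = 1 := by
      refine h3.trans ?_
      show χ' (Multiplicative.ofAdd (ψ l)) = 1
      rw [h5, ofAdd_zero, map_one]
    exact (QuotientAddGroup.eq_zero_iff l).1
      (Multiplicative.ofAdd.injective (univChar_injective k (h6.trans (map_one _).symm)))
  -- a retraction
  let φₗ := φ.toIntLinearMap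
  haveI : Module.Finite ℤ MG := Module.Finite.iff_addGroup_fg.2 inferInstance
  haveI : Module.Finite ℤ (MG ⧸ LinearMap.range φₗ) := inferInstance
  haveI : Module.IsTorsionFree ℤ (MG ⧸ LinearMap.range φₗ) := by
    rw [Module.isTorsionFree_int_iff_isAddTorsionFree]
    refine ⟨fun n hn x y hxy => ?_⟩
    obtain ⟨a, rfl⟩ := Submodule.Quotient.mk_surjective _ x
    obtain ⟨b, rfl⟩ := Submodule.Quotient.mk_surjective _ y
    simp only [← Submodule.Quotient.mk_smul, Submodule.Quotient.eq] at hxy ⊢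
    obtain ⟨m, hm⟩ := hxy
    obtain ⟨m', hm'⟩ := htf n (a - b) hn ⟨m, by rw [smul_sub]; exact hm⟩
    exact ⟨m', hm'⟩
  obtain ⟨σ, hσ⟩ := Module.projective_lifting_property (LinearMap.range φₗ).mkQ (LinearMap.id : (MG ⧸ LinearMap.range φₗ) →ₗ[ℤ] _)
    (Submodule.mkQ_surjective _)
  let e : MQ ≃ₗ[ℤ] LinearMap.range φₗ := LinearEquiv.ofInjective φₗ hinj
  let r : MG →ₗ[ℤ] MQ := e.symm.toLinearMap.comp
    ((LinearMap.id - σ.comp (LinearMap.range φₗ).mkQ).codRestrict (LinearMap.range φₗ) fun x => by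
      rw [← Submodule.Quotient.mk_eq_zero]
      have := LinearMap.congr_fun hσ (Submodule.Quotient.mk x)
      simp only [LinearMap.sub_apply, LinearMap.id_apply, LinearMap.comp_apply, Submodule.mkQ_apply, Submodule.Quotient.mk_sub] at this ⊢
      rw [this, sub_self])
  have hr : ∀ m, r (φ m) = m := fun m => by
    apply e.injective
    simp only [r, LinearMap.comp_apply, LinearEquiv.coe_coe, LinearEquiv.apply_symm_apply]
    apply Subtype.ext
    show φ m - σ ((LinearMap.range φₗ).mkQ (φ m)) = φ m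
    rw [show (LinearMap.range φₗ).mkQ (φ m) = 0 from (Submodule.Quotient.mk_eq_zero _).2 ⟨m, rfl⟩, map_zero, sub_zero]
  exact ⟨r.toAddMonoidHom, hr⟩

/-- An exact sequence of diagonalisable groups with free character groups splits. -/
theorem exists_section {MK MG MQ : Type} [AddCommGroup MK] [AddCommGroup MG] [AddCommGroup MQ]
    [AddGroup.FG MG] [AddGroup.FG MQ] [AddGroup.FG MK] [IsAddTorsionFree MK]
    (i : Red.DS (Spec (CommRingCat.of k)) MK ⟶ Red.DS (Spec (CommRingCat.of k)) MG) [IsMonHom i]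
    (π : Red.DS (Spec (CommRingCat.of k)) MG ⟶ Red.DS (Spec (CommRingCat.of k)) MQ) [IsMonHom π]
    [Flat π.left] [Surjective π.left] (hker : AlgGrp.IsKernel i π) :
    ∃ s : Red.DS (Spec (CommRingCat.of k)) MQ ⟶ Red.DS (Spec (CommRingCat.of k)) MG, IsMonHom s ∧ s ≫ π = 𝟙 _ := by
  obtain ⟨φ, hφ⟩ := exists_char (dsPts k MG) (dsPts k MQ) π
  obtain ⟨r, hr⟩ := exists_retraction (dsPts k MK) (dsPts k MG) (dsPts k MQ) (dsPts k ℤ)
    (fun f => ⟨Red.DSmap _ f, fun B q χ => dsPt_comp q f χ⟩) i π hker φ hφ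
  refine ⟨Red.DSmap _ r, DSMapLib.isMonHom_DSmap _ _, FixedSmooth.hom_ext_affine _ _ fun B q w => ?_⟩
  obtain ⟨χ, rfl⟩ := (dsPt MQ q).surjective w
  rw [← Category.assoc, dsPt_comp, Category.comp_id]
  refine (hφ B q _).trans (congrArg (dsPt MQ q) (MonoidHom.ext fun z => ?_))
  show χ (Multiplicative.ofAdd (r (φ (Multiplicative.toAdd z)))) = χ z
  rw [hr]
  rfl

end Groth.Agent.DSHomField
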